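import Mathlib

set_option linter.unusedSectionVars false
set_option linter.unusedVariables false
set_option linter.unusedSimpArgs false
set_option autoImplicit false
set_option linter.style.haveILetI false
set_option maxHeartbeats 400000

/-!
# The rank of a ring homomorphism and the `p`-degree of a field (helper6)
-/

universe u v w

namespace Groth.Agent.Lib.Helper6.PDeg

/-- the rank of the target of a ring hom as a module over the source -/
noncomputable def rk {A : Type u} {B : Type v} [CommRing A] [CommRing B] (f : A →+* B) : ℕ :=
  @Module.finrank A B _ _ f.toAlgebra.toModule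

/-- the target of a ring hom is a free module over the source -/
def IsFree {A : Type u} {B : Type v} [CommRing A] [CommRing B] (f : A →+* B) : Prop :=
  @Module.Free A B _ _ f.toAlgebra.toModule

theorem isFree_of_field {A : Type u} {B : Type v} [Field A] [CommRing B] (f : A →+* B) :
    IsFree f := by
  letI := f.toAlgebra
  exact (inferInstance : Module.Free A B)

theorem rk_comp {A : Type u} {B : Type v} {C : Type w} [CommRing A] [CommRing B] [CommRing C]
    [Nontrivial A] [Nontrivial B]
    (f : A →+* B) (g : B →+* C) (hf : IsFree f) (hg : IsFree g) :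
    rk (g.comp f) = rk f * rk g := by
  letI iAB : Algebra A B := f.toAlgebra
  letI iBC : Algebra B C := g.toAlgebra
  letI iAC : Algebra A C := (g.comp f).toAlgebra
  haveI : IsScalarTower A B C := IsScalarTower.of_algebraMap_eq (fun _ => rfl)
  haveI : Module.Free A B := hf
  haveI : Module.Free B C := hg
  exact (Module.finrank_mul_finrank A B C).symm

theorem isFree_comp {A : Type u} {B : Type v} {C : Type w} [CommRing A] [CommRing B] [CommRing C]
    (f : A →+* B) (g : B →+* C) (hf : IsFree f) (hg : IsFree g) :
    IsFree (g.comp f) := by
  letI iAB : Algebra A B := f.toAlgebra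
  letI iBC : Algebra B C := g.toAlgebra
  letI iAC : Algebra A C := (g.comp f).toAlgebra
  haveI : IsScalarTower A B C := IsScalarTower.of_algebraMap_eq (fun _ => rfl)
  haveI : Module.Free A B := hf
  haveI : Module.Free B C := hg
  exact Module.Free.trans (R := A) (S := B) (M := C)

theorem rk_eq_of_comm {A : Type u} {B : Type v} {A' : Type u} {B' : Type v}
    [CommRing A] [CommRing B] [CommRing A'] [CommRing B']
    (f : A →+* B) (f' : A' →+* B') (i : A ≃+* A') (j : B ≃+* B')
    (h : f'.comp i.toRingHom = j.toRingHom.comp f) : rk f = rk f' := by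
  letI iAB : Algebra A B := f.toAlgebra
  letI iAB' : Algebra A' B' := f'.toAlgebra
  exact Algebra.finrank_eq_of_equiv_equiv i j h

theorem isFree_of_comm {A : Type u} {B : Type v} {A' : Type u} {B' : Type v}
    [CommRing A] [CommRing B] [CommRing A'] [CommRing B']
    (f : A →+* B) (f' : A' →+* B') (i : A ≃+* A') (j : B ≃+* B')
    (h : f'.comp i.toRingHom = j.toRingHom.comp f) (hf : IsFree f) : IsFree f' := by
  letI iAB : Algebra A B := f.toAlgebra
  letI iAB' : Algebra A' B' := f'.toAlgebra
  haveI : Module.Free A B := hf
  obtain ⟨ι, ⟨b⟩⟩ := (Module.free_def.{u, v, v} A B).mp hf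
  -- transport the basis
  letI : Module A B' := Module.compHom B' i.toRingHom
  have hsm : ∀ (a : A) (y : B'), a • y = f' (i a) * y := fun a y => rfl
  let e : B ≃ₗ[A] B' :=
    { toFun := j
      invFun := j.symm
      map_add' := map_add j
      map_smul' := fun a x => by
        rw [RingHom.id_apply, hsm, Algebra.smul_def, map_mul]
        congr 1
        exact (RingHom.congr_fun h a).symm
      left_inv := j.symm_apply_apply
      right_inv := j.apply_symm_apply }
  have b' : Module.Basis ι A B' := b.map e
  have b'' : Module.Basis ι A' B' := b'.mapCoeffs i (fun c x => by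
    rw [hsm, Algebra.smul_def]
    rfl)
  exact Module.Free.of_basis b''

theorem rk_ringEquiv {A : Type u} {B : Type v} [CommRing A] [CommRing B] [Nontrivial B]
    (e : A ≃+* B) : rk e.toRingHom = 1 := by
  letI iAB : Algebra A B := e.toRingHom.toAlgebra
  have h := Algebra.finrank_eq_of_equiv_equiv (R₀ := A) (S₀ := B) (R₁ := B) (S₁ := B) e
    (RingEquiv.refl B) (by
      apply RingHom.ext
      intro a
      rfl)
  exact h.trans (Module.finrank_self B)

theorem rk_eq_finrank_fieldRange {A : Type u} {B : Type v} [Field A] [Field B] (f : A →+* B) :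
    Module.finrank f.fieldRange B = rk f := by
  letI iAB : Algebra A B := f.toAlgebra
  symm
  refine Algebra.finrank_eq_of_equiv_equiv (R₀ := A) (S₀ := B) (R₁ := f.fieldRange) (S₁ := B)
    f.rangeRestrictFieldEquiv (RingEquiv.refl B) ?_
  apply RingHom.ext
  intro a
  rfl

section Frob

variable (p : ℕ) [hp : Fact p.Prime]

/-- a finite extension does not change the `p`-degree -/
theorem rk_frobenius_eq_of_finite {L : Type u} {M : Type v} [Field L] [Field M] [CharP L p]
    [CharP M p] (i : L →+* M) (hi : rk i ≠ 0) :
    rk (frobenius M p) = rk (frobenius L p) := by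
  have h1 : rk ((frobenius M p).comp i) = rk i * rk (frobenius M p) :=
    rk_comp i (frobenius M p) (isFree_of_field _) (isFree_of_field _)
  have h2 : rk (i.comp (frobenius L p)) = rk (frobenius L p) * rk i :=
    rk_comp (frobenius L p) i (isFree_of_field _) (isFree_of_field _)
  have h3 : (frobenius M p).comp i = i.comp (frobenius L p) := by
    apply RingHom.ext
    intro x
    simp [frobenius_def]
  rw [h3, h2, mul_comm] at h1
  exact (Nat.eq_of_mul_eq_mul_left (Nat.pos_of_ne_zero hi) h1).symm

end Frob

end Groth.Agent.Lib.Helper6.PDeg
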