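import Mathlib
import Groth.Agent.Lib.Helper6.PDeg.Basic

set_option linter.unusedSectionVars false
set_option linter.unusedVariables false
set_option linter.unusedSimpArgs false
set_option autoImplicit false
set_option linter.style.haveILetI false
set_option maxHeartbeats 400000

/-!
# The `p`-degree of a fraction field (helper6)
-/

universe u v w

namespace Groth.Agent.Lib.Helper6.PDeg

/-- a copy of `P`, an algebra over `P` through the Frobenius -/
def Fr (P : Type u) (p : ℕ) : Type u := P

section

variable (P : Type u) (p : ℕ)

instance [CommRing P] : CommRing (Fr P p) := inferInstanceAs (CommRing P)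
instance [Field P] : Field (Fr P p) := inferInstanceAs (Field P)

variable [hp : Fact p.Prime] [CommRing P] [CharP P p]

noncomputable instance frAlgebra : Algebra P (Fr P p) := (frobenius P p).toAlgebra

theorem rk_frobenius_eq : rk (frobenius P p) = Module.finrank P (Fr P p) := rfl

theorem isFree_frobenius_iff : IsFree (frobenius P p) ↔ Module.Free P (Fr P p) := Iff.rfl

theorem fr_smul_def (a : P) (x : Fr P p) : a • x = (show P from a ^ p * (show P from x)) := rfl

end

section Frac

variable (p : ℕ) [hp : Fact p.Prime] (P : Type u) [CommRing P] [IsDomain P] [CharP P p]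
  (K : Type v) [Field K] [Algebra P K] [IsFractionRing P K] [CharP K p]

theorem rk_frobenius_fractionRing (hfree : IsFree (frobenius P p)) :
    rk (frobenius K p) = rk (frobenius P p) := by
  rw [rk_frobenius_eq, rk_frobenius_eq]
  haveI : Module.Free P (Fr P p) := hfree
  letI iPK : Module P (Fr K p) := Module.compHom (Fr K p) (algebraMap P K)
  have hsm : ∀ (a : P) (x : Fr K p), a • x = (show K from (algebraMap P K a) ^ p * (show K from x)) :=
    fun a x => rfl
  haveI : IsScalarTower P K (Fr K p) := ⟨fun a c x => by
    change (show K from (a • c) ^ p * (show K from x))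
      = (show K from (algebraMap P K a) ^ p * (show K from (c ^ p * (show K from x))))
    rw [Algebra.smul_def, mul_pow, mul_assoc]⟩
  let j : Fr P p →ₗ[P] Fr K p :=
    { toFun := fun b => (show K from algebraMap P K (show P from b))
      map_add' := fun x y => map_add (algebraMap P K) _ _
      map_smul' := fun a b => by
        change algebraMap P K (a ^ p * (show P from b))
          = (algebraMap P K a) ^ p * algebraMap P K (show P from b)
        rw [map_mul, map_pow] }
  have hj : ∀ b : Fr P p, j b = (show K from algebraMap P K (show P from b)) := fun b => rfl
  haveI : IsLocalizedModule (nonZeroDivisors P) j := by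
    refine ⟨?_, ?_, ?_⟩
    · intro s
      rw [Module.End.isUnit_iff]
      have hs0 : algebraMap P K (s : P) ≠ 0 := by
        intro h0
        exact nonZeroDivisors.ne_zero s.2
          (IsFractionRing.injective P K (h0.trans (map_zero _).symm))
      constructor
      · intro x y hxy
        change (show K from (algebraMap P K (s : P)) ^ p * (show K from x))
          = (show K from (algebraMap P K (s : P)) ^ p * (show K from y)) at hxy
        exact mul_left_cancel₀ (M₀ := K) (pow_ne_zero p hs0) hxy
      · intro y
        refine ⟨(show K from ((algebraMap P K (s : P)) ^ p)⁻¹ * (show K from y)), ?_⟩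
        change (show K from (algebraMap P K (s : P)) ^ p
          * (((algebraMap P K (s : P)) ^ p)⁻¹ * (show K from y))) = y
        rw [← mul_assoc, mul_inv_cancel₀ (pow_ne_zero p hs0), one_mul]
    · intro y
      obtain ⟨⟨b, s⟩, hbs⟩ := IsLocalization.surj (nonZeroDivisors P) (show K from y)
      refine ⟨⟨(show P from (s : P) ^ (p - 1) * b), s⟩, ?_⟩
      change (show K from (algebraMap P K (s : P)) ^ p * (show K from y))
        = algebraMap P K ((s : P) ^ (p - 1) * b)
      rw [map_mul, map_pow, ← hbs]
      have hp1 : p = (p - 1) + 1 := (Nat.sub_add_cancel hp.out.one_le).symm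
      conv_lhs => rw [hp1, pow_succ]
      ring
    · intro x₁ x₂ h
      refine ⟨1, ?_⟩
      have h' : algebraMap P K (show P from x₁) = algebraMap P K (show P from x₂) := h
      have := IsFractionRing.injective P K h'
      rw [one_smul, one_smul]
      exact this
  exact Module.finrank_of_isLocalizedModule_of_free K (nonZeroDivisors P) j

end Frac

end Groth.Agent.Lib.Helper6.PDeg
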