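import Mathlib
import Groth.Agent.Lib.Helper6.PDeg.Frac

set_option linter.unusedSectionVars false
set_option linter.unusedVariables false
set_option linter.unusedSimpArgs false
set_option autoImplicit false
set_option linter.style.haveILetI false
set_option maxHeartbeats 400000

/-!
# The Frobenius rank of a power series ring over a perfect field (helper6)
-/

universe u v w

open PowerSeries

namespace Groth.Agent.Lib.Helper6.PDeg

section

variable (p : ℕ) [hp : Fact p.Prime] (k : Type u) [Field k] [CharP k p]

theorem charP_powerSeries : CharP (PowerSeries k) p :=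
  charP_of_injective_algebraMap (algebraMap k (PowerSeries k)).injective p

theorem coeff_pow_char (f : PowerSeries k) (n : ℕ) :
    coeff n (f ^ p) = if p ∣ n then (coeff (n / p) f) ^ p else 0 := by
  have h := MvPowerSeries.map_frobenius_expand (σ := Unit) (R := k) p hp.out.ne_zero (f := f)
  have h2 : f ^ p = PowerSeries.map (frobenius k p) (PowerSeries.expand p hp.out.ne_zero f) :=
    h.symm
  rw [h2, PowerSeries.coeff_map, PowerSeries.coeff_expand]
  split_ifs with hd
  · rfl
  · rw [map_zero]

theorem coeff_X_pow_mul_pow_char (f : PowerSeries k) (r : ℕ) (hr : r < p) (n : ℕ) :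
    coeff n ((X : PowerSeries k) ^ r * f ^ p)
      = if n % p = r then (coeff (n / p) f) ^ p else 0 := by
  rw [PowerSeries.coeff_X_pow_mul']
  by_cases hrn : r ≤ n
  · rw [if_pos hrn, coeff_pow_char]
    by_cases hd : p ∣ n - r
    · have hmod : n % p = r := by
        obtain ⟨c, hc⟩ := hd
        have hn : n = r + p * c := by omega
        rw [hn, Nat.add_mul_mod_self_left, Nat.mod_eq_of_lt hr]
      rw [if_pos hd, if_pos hmod]
      congr 2
      obtain ⟨c, hc⟩ := hd
      have hn : n = r + p * c := by omega
      rw [hc, Nat.mul_div_cancel_left _ hp.out.pos, hn, Nat.add_mul_div_left _ _ hp.out.pos,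
        Nat.div_eq_of_lt hr, zero_add]
    · have hmod : ¬ n % p = r := by
        intro hm
        apply hd
        have := Nat.div_add_mod n p
        refine ⟨n / p, ?_⟩
        omega
      rw [if_neg hd, if_neg hmod]
  · have hmod : ¬ n % p = r := by
      intro hm
      have := Nat.mod_le n p
      omega
    rw [if_neg hrn, if_neg hmod]

variable [PerfectRing k p]

attribute [local instance] charP_powerSeries

/-- the decomposition map -/
noncomputable def psMap : (Fin p → PowerSeries k) →ₗ[PowerSeries k] Fr (PowerSeries k) p :=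
  { toFun := fun g => (show PowerSeries k from ∑ r : Fin p, (X : PowerSeries k) ^ (r : ℕ) * (g r) ^ p)
    map_add' := fun g h => by
      change (∑ r : Fin p, (X : PowerSeries k) ^ (r : ℕ) * (g r + h r) ^ p)
        = (∑ r : Fin p, (X : PowerSeries k) ^ (r : ℕ) * (g r) ^ p)
          + (∑ r : Fin p, (X : PowerSeries k) ^ (r : ℕ) * (h r) ^ p)
      rw [← Finset.sum_add_distrib]
      refine Finset.sum_congr rfl (fun r _ => ?_)
      rw [add_pow_char, mul_add]
    map_smul' := fun a g => by
      change (∑ r : Fin p, (X : PowerSeries k) ^ (r : ℕ) * (a * g r) ^ p)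
        = a ^ p * (∑ r : Fin p, (X : PowerSeries k) ^ (r : ℕ) * (g r) ^ p)
      rw [Finset.mul_sum]
      refine Finset.sum_congr rfl (fun r _ => ?_)
      rw [mul_pow]
      ring }

theorem coeff_psMap (g : Fin p → PowerSeries k) (n : ℕ) :
    coeff n (show PowerSeries k from psMap p k g)
      = (coeff (n / p) (g ⟨n % p, Nat.mod_lt n hp.out.pos⟩)) ^ p := by
  change coeff n (∑ r : Fin p, (X : PowerSeries k) ^ (r : ℕ) * (g r) ^ p) = _
  rw [map_sum]
  rw [Finset.sum_eq_single (⟨n % p, Nat.mod_lt n hp.out.pos⟩ : Fin p)]
  · rw [coeff_X_pow_mul_pow_char p k _ _ (Nat.mod_lt n hp.out.pos), if_pos rfl]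
  · intro r _ hr
    rw [coeff_X_pow_mul_pow_char p k _ _ r.2, if_neg]
    intro h
    apply hr
    exact Fin.ext h.symm
  · intro h
    exact absurd (Finset.mem_univ _) h

theorem psMap_bijective : Function.Bijective (psMap p k) := by
  constructor
  · rw [← LinearMap.ker_eq_bot, LinearMap.ker_eq_bot']
    intro g hg
    funext r
    ext m
    have h := coeff_psMap p k g (p * m + r)
    rw [hg] at h
    have h1 : (p * m + (r : ℕ)) / p = m := by
      rw [Nat.mul_add_div hp.out.pos, Nat.div_eq_of_lt r.2, add_zero]
    have h2 : (⟨(p * m + (r : ℕ)) % p, Nat.mod_lt _ hp.out.pos⟩ : Fin p) = r := by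
      apply Fin.ext
      change (p * m + (r : ℕ)) % p = r
      rw [Nat.mul_add_mod, Nat.mod_eq_of_lt r.2]
    rw [h1, h2] at h
    have h0 : coeff (p * m + (r : ℕ)) (show PowerSeries k from (0 : Fr (PowerSeries k) p)) = 0 :=
      map_zero _
    rw [h0] at h
    have := pow_eq_zero_iff hp.out.ne_zero |>.mp h.symm
    rw [this]
    rfl
  · intro f
    refine ⟨fun r => PowerSeries.mk (fun m =>
      (frobeniusEquiv k p).symm (coeff (p * m + (r : ℕ)) (show PowerSeries k from f))), ?_⟩
    have : (show PowerSeries k from psMap p k (fun r => PowerSeries.mk (fun m =>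
      (frobeniusEquiv k p).symm (coeff (p * m + (r : ℕ)) (show PowerSeries k from f)))))
        = (show PowerSeries k from f) := by
      ext n
      rw [coeff_psMap, PowerSeries.coeff_mk]
      change (frobenius k p) ((frobeniusEquiv k p).symm _) = _
      rw [frobenius_apply_frobeniusEquiv_symm]
      have hn : p * (n / p) + ((⟨n % p, Nat.mod_lt n hp.out.pos⟩ : Fin p) : ℕ) = n :=
        Nat.div_add_mod n p
      rw [hn]
    exact this

/-- the decomposition as a linear equivalence -/
noncomputable def psEquiv : (Fin p → PowerSeries k) ≃ₗ[PowerSeries k] Fr (PowerSeries k) p :=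
  LinearEquiv.ofBijective (psMap p k) (psMap_bijective p k)

theorem powerSeries_free : Module.Free (PowerSeries k) (Fr (PowerSeries k) p) :=
  Module.Free.of_equiv (psEquiv p k)

theorem powerSeries_finrank : Module.finrank (PowerSeries k) (Fr (PowerSeries k) p) = p := by
  rw [← (psEquiv p k).finrank_eq, Module.finrank_fin_fun]

end

end Groth.Agent.Lib.Helper6.PDeg
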