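import Mathlib
import Groth.Agent.Lib.Helper6.PDeg.Frac
import Groth.Agent.Lib.Helper6.FrobSm.Expand

set_option linter.unusedSectionVars false
set_option linter.unusedVariables false
set_option linter.unusedSimpArgs false
set_option autoImplicit false
set_option linter.style.haveILetI false
set_option maxHeartbeats 400000

/-!
# The Frobenius rank of a polynomial ring over a field (helper6)
-/

universe u v w

open MvPolynomial

namespace Groth.Agent.Lib.Helper6.PDeg

open Groth.Agent.Lib.Helper6.FrobSm

section

variable (p : ℕ) [hp : Fact p.Prime] (F : Type u) [Field F] [CharP F p]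
  (σ : Type v) [Fintype σ]

attribute [local instance] MvPolynomial.algebraMvPolynomial

/-- first step: coefficients -/
theorem free_step1 : Module.Free (MvPolynomial σ F) (MvPolynomial σ (Fr F p)) := by
  have h := (inferInstance : Algebra.IsPushout F (MvPolynomial σ F) (Fr F p)
    (MvPolynomial σ (Fr F p))).out
  exact Module.Free.of_equiv h.equiv

theorem finrank_step1 :
    Module.finrank (MvPolynomial σ F) (MvPolynomial σ (Fr F p)) = Module.finrank F (Fr F p) := by
  have h := (inferInstance : Algebra.IsPushout F (MvPolynomial σ F) (Fr F p)
    (MvPolynomial σ (Fr F p))).out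
  rw [← h.equiv.finrank_eq]
  exact Module.finrank_baseChange

/-- the composite algebra structure -/
@[reducible] noncomputable def algStep :
    Algebra (MvPolynomial σ F) (ExpT σ (Fr F p) p) :=
  ((algebraMap (MvPolynomial σ (Fr F p)) (ExpT σ (Fr F p) p)).comp
    (algebraMap (MvPolynomial σ F) (MvPolynomial σ (Fr F p)))).toAlgebra

attribute [local instance] algStep

theorem tower_step :
    IsScalarTower (MvPolynomial σ F) (MvPolynomial σ (Fr F p)) (ExpT σ (Fr F p) p) :=
  IsScalarTower.of_algebraMap_eq (fun _ => rfl)

attribute [local instance] tower_step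

theorem free_step2 : Module.Free (MvPolynomial σ F) (ExpT σ (Fr F p) p) := by
  haveI := free_step1 p F σ
  haveI := free_expT (σ := σ) (R := Fr F p) (p := p) hp.out.ne_zero
  exact Module.Free.trans (R := MvPolynomial σ F) (S := MvPolynomial σ (Fr F p))
    (M := ExpT σ (Fr F p) p)

theorem finrank_step2 :
    Module.finrank (MvPolynomial σ F) (ExpT σ (Fr F p) p)
      = Module.finrank F (Fr F p) * p ^ Fintype.card σ := by
  haveI := free_step1 p F σ
  haveI := free_expT (σ := σ) (R := Fr F p) (p := p) hp.out.ne_zero
  rw [← Module.finrank_mul_finrank (MvPolynomial σ F) (MvPolynomial σ (Fr F p))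
    (ExpT σ (Fr F p) p), finrank_step1, finrank_expT hp.out.ne_zero]

/-- the identification with the Frobenius copy -/
noncomputable def stepEquiv :
    ExpT σ (Fr F p) p ≃ₗ[MvPolynomial σ F] Fr (MvPolynomial σ F) p :=
  { toFun := fun x => x
    invFun := fun x => x
    map_add' := fun x y => rfl
    map_smul' := fun a x => by
      rw [RingHom.id_apply, Algebra.smul_def]
      change (show MvPolynomial σ F from
        expand p (MvPolynomial.map (frobenius F p) a) * (show MvPolynomial σ F from x))
        = (show MvPolynomial σ F from a ^ p * (show MvPolynomial σ F from x))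
      rw [← map_expand, map_frobenius_expand]
    left_inv := fun x => rfl
    right_inv := fun x => rfl }

theorem mvPolynomial_free : Module.Free (MvPolynomial σ F) (Fr (MvPolynomial σ F) p) := by
  haveI := free_step2 p F σ
  exact Module.Free.of_equiv (stepEquiv p F σ)

theorem mvPolynomial_finrank :
    Module.finrank (MvPolynomial σ F) (Fr (MvPolynomial σ F) p)
      = Module.finrank F (Fr F p) * p ^ Fintype.card σ := by
  rw [← (stepEquiv p F σ).finrank_eq, finrank_step2]

end

end Groth.Agent.Lib.Helper6.PDeg
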