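import Mathlib
import Groth.Agent.Lib.Helper6.PDeg.Poly
import Groth.Agent.Lib.Helper6.PDeg.PS

set_option linter.unusedSectionVars false
set_option linter.unusedVariables false
set_option linter.unusedSimpArgs false
set_option autoImplicit false
set_option linter.style.haveILetI false
set_option maxHeartbeats 400000

/-!
# The `p`-degree of a finitely generated extension of a Laurent series field (helper6)
-/

universe u v w

open MvPolynomial

namespace Groth.Agent.Lib.Helper6.PDeg

theorem rk_algebraMap {A : Type u} {B : Type v} [CommRing A] [CommRing B] [Algebra A B] :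
    rk (algebraMap A B) = Module.finrank A B := by
  exact @Algebra.finrank_eq_of_equiv_equiv A B _ _ (algebraMap A B).toAlgebra A B _ _ _
    (RingEquiv.refl A) (RingEquiv.refl B) rfl

section

variable (p : ℕ) [hp : Fact p.Prime]

/-- general form: `F` a field of char `p`, `K` a finitely generated extension of transcendence
degree `d`: `[K : K^p] = [F : F^p] * p ^ d`. -/
theorem rk_frobenius_of_fg (F : Type u) [Field F] [CharP F p] (K : Type u) [Field K] [Algebra F K]
    [CharP K p] (hfg : (⊤ : IntermediateField F K).FG) (d : ℕ)
    (hd : Algebra.trdeg F K = d) :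
    rk (frobenius K p) = rk (frobenius F p) * p ^ d := by
  classical
  obtain ⟨ι, x, hx⟩ :=
    (exists_isTranscendenceBasis' F K : ∃ (ι : Type u) (x : ι → K), IsTranscendenceBasis F x)
  have hcard : Cardinal.mk ι = d := hx.cardinalMk_eq_trdeg.trans hd
  haveI : Finite ι := by
    rw [← Cardinal.lt_aleph0_iff_finite, hcard]
    exact Cardinal.natCast_lt_aleph0
  letI : Fintype ι := Fintype.ofFinite ι
  have hcard' : Fintype.card ι = d := by
    rw [Cardinal.mk_fintype] at hcard
    exact_mod_cast hcard
  -- the intermediate field
  haveI halg : Algebra.IsAlgebraic (IntermediateField.adjoin F (Set.range x)) K :=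
    hx.isAlgebraic_field
  haveI : Algebra.EssFiniteType F K := IntermediateField.fg_top_iff.mp hfg
  haveI : Algebra.EssFiniteType (IntermediateField.adjoin F (Set.range x)) K :=
    Algebra.EssFiniteType.of_comp F (IntermediateField.adjoin F (Set.range x)) K
  haveI hfin : Module.Finite (IntermediateField.adjoin F (Set.range x)) K :=
    Algebra.finite_of_essFiniteType_of_isAlgebraic
  haveI : CharP (IntermediateField.adjoin F (Set.range x)) p :=
    charP_of_injective_algebraMap
      (algebraMap F (IntermediateField.adjoin F (Set.range x))).injective p
  have h1 : rk (frobenius K p) = rk (frobenius (IntermediateField.adjoin F (Set.range x)) p) := by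
    apply rk_frobenius_eq_of_finite p (algebraMap (IntermediateField.adjoin F (Set.range x)) K)
    rw [rk_algebraMap]
    exact (Module.finrank_pos).ne'
  -- the rational function field
  haveI : CharP (FractionRing (MvPolynomial ι F)) p :=
    charP_of_injective_algebraMap
      (IsFractionRing.injective (MvPolynomial ι F) (FractionRing (MvPolynomial ι F))) p
  have h2 : rk (frobenius (FractionRing (MvPolynomial ι F)) p)
      = rk (frobenius (IntermediateField.adjoin F (Set.range x)) p) := by
    apply rk_eq_of_comm _ _ hx.1.aevalEquivField.toRingEquiv hx.1.aevalEquivField.toRingEquiv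
    apply RingHom.ext
    intro z
    simp [frobenius_def]
  have h3 : rk (frobenius (FractionRing (MvPolynomial ι F)) p)
      = rk (frobenius (MvPolynomial ι F) p) :=
    rk_frobenius_fractionRing p (MvPolynomial ι F) (FractionRing (MvPolynomial ι F))
      (mvPolynomial_free p F ι)
  rw [h1, ← h2, h3, rk_frobenius_eq, mvPolynomial_finrank, hcard', rk_frobenius_eq]

end

section Laurent

variable (p : ℕ) [hp : Fact p.Prime] (k : Type u) [Field k] [Finite k] [CharP k p]

attribute [local instance] charP_powerSeries

theorem charP_laurentSeries : CharP (LaurentSeries k) p :=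
  charP_of_injective_algebraMap (algebraMap k (LaurentSeries k)).injective p

attribute [local instance] charP_laurentSeries

theorem rk_frobenius_laurentSeries : rk (frobenius (LaurentSeries k) p) = p := by
  rw [rk_frobenius_fractionRing p (PowerSeries k) (LaurentSeries k) (powerSeries_free p k),
    rk_frobenius_eq, powerSeries_finrank]

theorem main (K : Type u) [Field K] [Algebra (LaurentSeries k) K] [CharP K p]
    (hfg : (⊤ : IntermediateField (LaurentSeries k) K).FG) (d : ℕ)
    (hd : Algebra.trdeg (LaurentSeries k) K = d) :
    Module.finrank (↥(frobenius K p).fieldRange) K = p ^ (d + 1) := by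
  rw [rk_eq_finrank_fieldRange, rk_frobenius_of_fg p (LaurentSeries k) K hfg d hd,
    rk_frobenius_laurentSeries, pow_succ, mul_comm]

end Laurent

end Groth.Agent.Lib.Helper6.PDeg
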